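import Cfsg.Agent.Lib.Spor.Leech.PermRep
import Cfsg.Agent.Lib.Spor.Leech.ThreeSimple
import Cfsg.Agent.Lib.Spor.Leech.ThreePairs
import Cfsg.Agent.Lib.Spor.Cos.Simple
import Cfsg.Agent.Lib.Spor.Cos.Co3Out.ActData
import Cfsg.Prelude.Def_Spor_Conway

/-!
The action of a vector stabiliser on 552 vectors by tables.
-/

set_option autoImplicit false
set_option maxRecDepth 100000
set_option maxHeartbeats 1000000

namespace Cfsg.Agent.Spor.Cos.Co3Out

open Cfsg Leech

/-- The group. -/
abbrev H : Subgroup Co0 := fixSub co3pL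

/-- The generators. -/
noncomputable def g : ℕ → H := genW co3pL opW

theorem op_gens : chkGens co3pL opW = true := by decide +kernel

theorem act_inv : ∀ k < 552, actA.chkInv k = true := by decide +kernel

theorem act_img : ∀ k < 552, chkImg co3pC actA opW k = true := by
  refine of_blocks (size := 70) (b := 8) (by decide) (by decide) fun j hj => ?_
  interval_cases j <;> decide +kernel

theorem exists_pi : ∃ π : H →* Equiv.Perm (Fin actA.N), actA.Hom g π :=
  exists_perm co3p_checks actA rfl opW rfl op_gens act_inv act_img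

/-- The action. -/
noncomputable def pi : H →* Equiv.Perm (Fin actA.N) := exists_pi.choose

theorem homA : actA.Hom g pi := exists_pi.choose_spec

theorem H_eq : H = MulAction.stabilizer Co0 ThreePairs.bU := by
  ext h
  show Fixes co3pL h ↔ h • ThreePairs.bU = ThreePairs.bU
  constructor
  · exact fun hf => hf _ (List.mem_cons_self ..) ThreePairs.bU (mkL_val _ _)
  · intro hu bc hbc v hv
    rcases List.mem_cons.1 hbc with rfl | hbc
    · rwa [show v = ThreePairs.bU from Subtype.ext (hv.trans (mkL_val _ _).symm)]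
    · simp at hbc

theorem isCo3 : IsCo3 ↥H := by
  rw [H_eq]
  exact ThreeSimple.isCo3 ThreePairs.bU_norm

theorem card_H : Nat.card H = 495766656000 := isCo3.2

theorem isSimple : IsSimpleGroup H := isCo3.1

instance : Finite H := Nat.finite_of_card_ne_zero (by rw [card_H]; norm_num)

theorem pi_injective : Function.Injective pi := by
  have := isSimple
  rw [← MonoidHom.ker_eq_bot_iff]
  refine (pi.normal_ker.eq_bot_or_eq_top).resolve_right fun htop => ?_
  have h1 : pi (g 0) = 1 := MonoidHom.mem_ker.1 (htop ▸ Subgroup.mem_top _)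
  rw [homA.gen] at h1
  have h2 : ∀ p : Fin actA.N, (actA.perm 0 p : ℕ) = p := fun p => by rw [h1]; rfl
  have h3 : ¬ ∀ p < 552, actA.im p 0 = p := by decide +kernel
  refine h3 fun p hp => ?_
  rw [← actA.perm_apply act_inv (by decide) ⟨p, hp⟩]
  exact h2 ⟨p, hp⟩

theorem g_sq (s : ℕ) : g s * g s = 1 :=
  pi_injective (by rw [map_mul, homA.gen, actA.perm_sq, map_one])

theorem lev1 : LevR g actA pi o1W 898128000 (ptsA.drop 1) := by
  have k5 : o5.Ok actA o5W (ptsA.getD 5 0) := ⟨by decide +kernel, by decide, by decide +kernel⟩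
  have k4 : o4.Ok actA o4W (ptsA.getD 4 0) := ⟨by decide +kernel, by decide, by decide +kernel⟩
  have k3 : o3.Ok actA o3W (ptsA.getD 3 0) := ⟨by decide +kernel, by decide, by decide +kernel⟩
  have k2 : o2.Ok actA o2W (ptsA.getD 2 0) := ⟨by decide +kernel, by decide, by decide +kernel⟩
  have k1 : o1.Ok actA o1W (ptsA.getD 1 0) := ⟨by decide +kernel, by decide, by decide +kernel⟩
  exact LevR.step homA (LevR.step homA (LevR.step homA (LevR.step homA (LevR.step homA LevR.nil k5
      (by decide +kernel) (by decide +kernel) (by decide +kernel)) k4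
      (by decide +kernel) (by decide +kernel) (by decide +kernel)) k3
      (by decide +kernel) (by decide +kernel) (by decide +kernel)) k2
      (by decide +kernel) (by decide +kernel) (by decide +kernel)) k1
      (by decide +kernel) (by decide +kernel) (by decide +kernel)

/-- The base point. -/
def base0 : Fin actA.N := ⟨529, by decide⟩

theorem ok0 : o0.Ok actA o0W 529 := ⟨by decide +kernel, by decide, by decide +kernel⟩

theorem lev : LevR g actA pi (singles (List.range 5)) 495766656000 ptsA :=
  LevR.step homA lev1 ok0 (by decide +kernel) (by decide +kernel) (by decide +kernel)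

theorem val_top : val g (singles (List.range 5)) = ⊤ :=
  Subgroup.eq_top_of_le_card _ (card_H.trans_le lev.le)

theorem det (y : H) (h : ∀ q : Fin actA.N, (q : ℕ) ∈ ptsA → pi y q = q) : y = 1 :=
  lev.fix (by rw [val_top, Nat.card_congr Subgroup.topEquiv.toEquiv, card_H]) y
    (val_top ▸ Subgroup.mem_top y) h

theorem pts_lt : ∀ p ∈ ptsA, p < actA.N := by decide +kernel

theorem g_gen : Subgroup.closure {x | ∃ s < 5, g s = x} = ⊤ := by
  refine top_le_iff.1 (val_top ▸ (Subgroup.closure_le _).2 ?_)
  rintro _ ⟨w, hw, rfl⟩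
  obtain ⟨s, hs, rfl⟩ := List.mem_map.1 hw
  exact Subgroup.subset_closure ⟨s, List.mem_range.1 hs, by simp [ev]⟩

theorem trA (p : Fin actA.N) : ∃ y : H, pi y base0 = p := exists_apply_eq homA ok0 rfl p

theorem card_base : Nat.card (stab pi base0) = 898128000 := card_stab trA (k := 898128000) card_H

theorem stab_val : val g o1W = stab pi base0 := by
  refine Subgroup.eq_of_le_of_card_ge ((Subgroup.closure_le _).2 ?_) (card_base.trans_le lev1.le)
  rintro _ ⟨w, hw, rfl⟩
  exact mem_stab.2 (homA.apply_ev_eq (ws := o1W) (by decide +kernel) (by decide +kernel) hw)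

theorem nonempty_equiv : Nonempty (↥Cfsg.Spor.Co3 ≃* H) := by
  have hn : sqNorm (Cfsg.Spor.leechV : Vec) = 48 := by
    rw [show (Cfsg.Spor.leechV : Vec) = Cfsg.Spor.vecV from rfl]
    decide +kernel
  obtain ⟨k, hk⟩ := exists_move48 hn ThreePairs.bU_norm
  let e : ↥Cfsg.Spor.Co3 ≃* ↥(MulAction.stabilizer Co0 Cfsg.Spor.leechV) :=
    { toFun := fun y => ⟨⟨y.1, y.2.1⟩, y.2.2⟩
      invFun := fun y => ⟨y.1.1, ⟨y.1.2, y.2⟩⟩
      left_inv := fun _ => rfl
      right_inv := fun _ => rfl
      map_mul' := fun _ _ => rfl }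
  exact ⟨(e.trans (StabSimple.oneEquiv k hk)).trans (MulEquiv.subgroupCongr H_eq.symm)⟩

/-- An isomorphism with the represented group. -/
noncomputable def equivCo3 : ↥Cfsg.Spor.Co3 ≃* H := nonempty_equiv.some

end Cfsg.Agent.Spor.Cos.Co3Out
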