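import Cfsg.Agent.Lib.Spor.Cos.Co3Out.Defs

/-! Data and checks for the automorphisms of a group on 552 points. -/

set_option autoImplicit false
set_option maxRecDepth 100000
set_option maxHeartbeats 4000000

namespace Cfsg.Agent.Spor.Cos.Co3Out

theorem syl_b4 : allBlock (chkSyl) 1024 128 4 = true := by decide +kernel

theorem syl_b5 : allBlock (chkSyl) 1024 128 5 = true := by decide +kernel

theorem syl_b6 : allBlock (chkSyl) 1024 128 6 = true := by decide +kernel

theorem syl_b7 : allBlock (chkSyl) 1024 128 7 = true := by decide +kernel

end Cfsg.Agent.Spor.Cos.Co3Out
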