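import Cfsg.Agent.Lib.Spor.Cos.OutCentral
import Cfsg.Agent.Lib.Spor.Cos.McLOut.Cent
import Cfsg.Agent.Lib.Spor.Cos.Co3Out.Rep
import Cfsg.Agent.Lib.Spor.Cos.Co3Out.SylChk
import Cfsg.Agent.Lib.Spor.Cos.Co3Out.InvChk

/-!
An involution centraliser in a group on 552 points, bounded through the point stabiliser.
-/

set_option autoImplicit false
set_option maxRecDepth 100000
set_option maxHeartbeats 1000000

namespace Cfsg.Agent.Spor.Cos.Co3Out

open Cfsg Leech Triple

theorem eq_of_same {v w : List ℕ} (h : sameW actA ptsA v w = true) : ev g v = ev g w := eq_of_sameW homA det h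

theorem ev_zero : ev g [0] = g 0 := mul_one _

theorem g_ne {s : ℕ} (hs : s < 5) : g s ≠ 1 := by
  have h : ∀ k < 5, agree actA ptsA [k] [] = false := by decide +kernel
  have := Central.ne_of_agree (g := g) homA pts_lt (v := [s]) (w := []) (by simpa [actA] using hs) (by simp) (h s hs)
  simpa [ev] using this

/-- The operations of a word. -/
def opsOf : List ℕ → List (ℕ × ℕ)
  | [] => []
  | s :: w => opsOf w ++ opW.getD s []

theorem wordG_append : ∀ a b : List (ℕ × ℕ), wordG (a ++ b) = wordG b * wordG a
  | [], b => by simp [wordG]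
  | o :: a, b => by rw [List.cons_append, wordG, wordG_append a b, wordG, mul_assoc]

theorem coe_ev : ∀ w : List ℕ, (∀ s ∈ w, s < 5) → ((ev g w : H) : Co0) = wordG (opsOf w)
  | [], _ => rfl
  | s :: w, h => by
    have hs : s < opW.length := by
      have := h s (List.mem_cons_self ..)
      have : opW.length = 5 := rfl
      omega
    have hm : opW.getD s [] ∈ opW := by rw [List.getD_eq_getElem _ _ hs]; exact List.getElem_mem _
    rw [ev, Subgroup.coe_mul, coe_ev w fun t ht => h t (List.mem_cons_of_mem _ ht), opsOf, wordG_append]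
    congr 1
    rw [g, genW, dif_pos (fixes_of_chk op_gens hm).2]

theorem base_ops : (o1W.all fun w => (w.all fun s => Nat.blt s 5) && (opsOf w).all opOk &&
    mclL.all fun bc => Nat.beq (appWF (opsOf w) (encV (ofList bc.1))) (encV (ofList bc.1))) = true := by
  decide +kernel

/-- The point stabiliser fixes both vectors. -/
theorem base_fixes {y : H} (hy : y ∈ stab pi base0) : (y : Co0) ∈ McLOut.H := by
  rw [← stab_val] at hy
  suffices h : val g o1W ≤ McLOut.H.comap H.subtype from h hy
  refine (Subgroup.closure_le _).2 ?_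
  rintro _ ⟨w, hw, rfl⟩
  have h := List.all_eq_true.1 base_ops w hw
  simp only [Bool.and_eq_true, List.all_eq_true] at h
  obtain ⟨⟨hl, hop⟩, hfix⟩ := h
  have hg : chkGens mclL [opsOf w] = true := by
    have h0 := McLOut.op_gens
    simp only [chkGens, Bool.and_eq_true, List.all_eq_true] at h0 ⊢
    refine ⟨h0.1, fun v hv => ?_⟩
    rw [List.mem_singleton] at hv
    subst hv
    refine ⟨hop, fun bc hbc => ?_⟩
    rw [← appWF_eq, beq_iff_eq]
    exact Nat.eq_of_beq_eq_true (hfix bc hbc)
  show ((ev g w : H) : Co0) ∈ McLOut.H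
  rw [coe_ev w fun s hs => Nat.le_of_ble_eq_true (hl s hs)]
  exact (fixes_of_chk hg (List.mem_singleton_self _)).2

theorem card_centralizer_map {G G' : Type*} [Group G] [Group G'] (φ : G ≃* G') (x : G) :
    Nat.card (Subgroup.centralizer ({φ x} : Set G')) = Nat.card (Subgroup.centralizer ({x} : Set G)) := by
  refine (Nat.card_congr (φ.toEquiv.subtypeEquiv fun y => ?_)).symm
  rw [Subgroup.mem_centralizer_singleton_iff, Subgroup.mem_centralizer_singleton_iff]
  show y * x = x * y ↔ φ y * φ x = φ x * φ y
  rw [← map_mul, ← map_mul, φ.injective.eq_iff]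

/-- The conjugate of the first generator fixing the base point. -/
def zcW : List ℕ := fixW.reverse ++ ([0] ++ fixW)

theorem zc_facts : (zcW.all fun s => Nat.blt s 5) = true ∧ actA.go zcW 529 = 529 ∧ (fixW.all fun s => Nat.blt s 5) = true ∧
    fixL.length = 72 := by
  decide +kernel

theorem fix_chk : ∀ p < 552, (!(Nat.beq (actA.go zcW p) p) || fixL.any (Nat.beq p)) = true := by decide +kernel

/-- The centraliser. -/
abbrev C : Subgroup H := Subgroup.centralizer ({g 0} : Set H)

theorem card_C_le : Nat.card C ≤ 2903040 := by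
  classical
  set z' := ev g zcW with hz'
  have hconj : z' = MulAut.conj (ev g fixW)⁻¹ (g 0) := by
    have hl : ∀ s ∈ fixW, s < 5 := fun s hs => Nat.le_of_ble_eq_true (List.all_eq_true.1 zc_facts.2.2.1 s hs)
    rw [hz', zcW, ev_append, ev_append, ev_reverse (fun s _ => g_sq s) _ hl, ev_zero, MulAut.conj_apply, inv_inv,
      mul_assoc]
  have hC : Nat.card C = Nat.card (Subgroup.centralizer ({z'} : Set H)) := by
    rw [hconj]
    exact (card_centralizer_map (MulAut.conj (ev g fixW)⁻¹) (g 0)).symm
  have hzl : ∀ s ∈ zcW, s < actA.n := fun s hs => Nat.le_of_ble_eq_true (List.all_eq_true.1 zc_facts.1 s hs)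
  have hzS : z' ∈ stab pi base0 := mem_stab.2 (Fin.ext ((homA.apply_ev _ hzl base0).trans zc_facts.2.1))
  -- the centraliser inside the point stabiliser
  set D := Subgroup.centralizer ({z'} : Set H) with hD
  have h2 : Nat.card ↥(D ⊓ stab pi base0) ≤ 40320 := by
    let y0 : McLOut.H := ⟨(z' : Co0), base_fixes hzS⟩
    have hne : y0 ≠ 1 := fun e => g_ne (show 0 < 5 by norm_num) <|
      (MulAut.conj (ev g fixW)⁻¹).injective <| by
        rw [map_one, ← hconj]
        exact Subtype.ext (show (z' : Co0) = 1 from congrArg Subtype.val e)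
    have hz2 : z' * z' = 1 := by rw [hconj, ← map_mul, g_sq, map_one]
    have ho : orderOf y0 = 2 := orderOf_eq_prime (hp := ⟨Nat.prime_two⟩)
      (by rw [_root_.sq]; exact Subtype.ext (show (z' : Co0) * z' = 1 from congrArg Subtype.val hz2)) hne
    obtain ⟨d, hd⟩ := isConj_iff.1 (McLOut.conj_z ho)
    have hcard : Nat.card (Subgroup.centralizer ({y0} : Set McLOut.H)) = 40320 := by
      rw [← hd, ← MulAut.conj_apply, card_centralizer_map, ← McLOut.card_facts.1, McLOut.card_facts.2.1]
    rw [← hcard]
    refine Nat.card_le_card_of_injective (fun y => ⟨⟨(y.1 : Co0), base_fixes y.2.2⟩, ?_⟩) fun a b e =>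
      Subtype.ext (Subtype.ext (congrArg (fun u => (u.1.1 : Co0)) e))
    exact Subgroup.mem_centralizer_singleton_iff.2 (Subtype.ext (show (y.1 : Co0) * z' = z' * y.1 from
      congrArg Subtype.val (Subgroup.mem_centralizer_singleton_iff.1 y.2.1)))
  let : MulAction D (Fin actA.N) := MulAction.compHom (Fin actA.N) (pi.comp D.subtype)
  have key : (MulAction.orbit D base0).ncard * Nat.card (MulAction.stabilizer D base0) = Nat.card D := by
    rw [← Nat.card_coe_set_eq, ← Nat.card_prod]
    exact Nat.card_congr (MulAction.orbitProdStabilizerEquivGroup D base0)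
  have horb : (MulAction.orbit D base0).ncard ≤ 72 := by
    refine le_trans ?_ (zc_facts.2.2.2 ▸ List.toFinset_card_le fixL)
    rw [← Set.ncard_coe_finset]
    refine Set.ncard_le_ncard_of_injOn (fun p : Fin actA.N => (p : ℕ)) ?_ Fin.val_injective.injOn
      (List.toFinset fixL).finite_toSet
    rintro _ ⟨c, rfl⟩
    have hc : pi z' (pi c.1 base0) = pi c.1 base0 := by
      rw [← Equiv.Perm.mul_apply, ← map_mul, ← Subgroup.mem_centralizer_singleton_iff.1 c.2, map_mul,
        Equiv.Perm.mul_apply, mem_stab.1 hzS]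
    have h := fix_chk _ (pi c.1 base0).2
    rw [show actA.go zcW (pi c.1 base0 : ℕ) = (pi c.1 base0 : ℕ) by rw [← homA.apply_ev _ hzl, hc], Nat.beq_refl,
      Bool.not_true, Bool.false_or, List.any_eq_true] at h
    obtain ⟨q, hq, e⟩ := h
    show ((pi c.1 base0 : Fin actA.N) : ℕ) ∈ (fixL.toFinset : Set ℕ)
    rw [Finset.mem_coe, List.mem_toFinset, Nat.eq_of_beq_eq_true e]
    exact hq
  have hst : Nat.card (MulAction.stabilizer D base0) ≤ 40320 := by
    refine le_trans ?_ h2
    refine Nat.card_le_card_of_injective (fun y : MulAction.stabilizer D base0 =>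
      (⟨y.1.1, y.1.2, y.2⟩ : ↥(D ⊓ stab pi base0))) fun a b e => ?_
    exact Subtype.ext (Subtype.ext (congrArg (fun u : ↥(D ⊓ stab pi base0) => (u : H)) e))
  rw [hC, ← key]
  exact (Nat.mul_le_mul horb hst).trans (by norm_num)

theorem cen_comm : (c0W.all fun w => sameW actA ptsA (w ++ [0]) ([0] ++ w)) = true := by decide +kernel

theorem cenG_eq : cenG = c0W := by decide +kernel

theorem comm_le {G' : List (List ℕ)} (h : (G'.all fun w => sameW actA ptsA (w ++ [0]) ([0] ++ w)) = true) :
    val g G' ≤ C := by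
  refine (Subgroup.closure_le _).2 ?_
  rintro _ ⟨w, hw, rfl⟩
  rw [SetLike.mem_coe, Subgroup.mem_centralizer_singleton_iff, ← ev_zero, ← ev_append, ← ev_append]
  exact eq_of_same (List.all_eq_true.1 h w hw)

theorem levC : LevR g actA pi c0W 2903040 ptsC := by
  have k3 : c3.Ok actA c3W (ptsC.getD 3 0) := ⟨by decide +kernel, by decide, by decide +kernel⟩
  have k2 : c2.Ok actA c2W (ptsC.getD 2 0) := ⟨by decide +kernel, by decide, by decide +kernel⟩
  have k1 : c1.Ok actA c1W (ptsC.getD 1 0) := ⟨by decide +kernel, by decide, by decide +kernel⟩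
  have k0 : c0.Ok actA c0W (ptsC.getD 0 0) := ⟨by decide +kernel, by decide, by decide +kernel⟩
  exact LevR.step homA (LevR.step homA (LevR.step homA (LevR.step homA LevR.nil k3
      (by decide +kernel) (by decide +kernel) (by decide +kernel)) k2
      (by decide +kernel) (by decide +kernel) (by decide +kernel)) k1
      (by decide +kernel) (by decide +kernel) (by decide +kernel)) k0
      (by decide +kernel) (by decide +kernel) (by decide +kernel)

theorem C_facts : val g c0W = C ∧ Nat.card C = 2903040 := by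
  have h1 : Nat.card C ≤ Nat.card (val g c0W) := card_C_le.trans levC.le
  have e := Subgroup.eq_of_le_of_card_ge (comm_le cen_comm) h1
  exact ⟨e, le_antisymm card_C_le (e ▸ levC.le)⟩

theorem syl_parts : (∀ i < sylD.m, Central.chkList actA ptsA sylD i = true) ∧
    (∀ i < sylD.m, Central.chkCentral actA ptsA sylD i = true) ∧
    ∀ i < sylD.m, Central.chkInvol actA ptsA sylD invW sylInv sylConj 64 tW i = true := by
  refine ⟨fun i hi => ?_, fun i hi => ?_, fun i hi => ?_⟩ <;>
    · have h := syl_ok i hi
      simp only [chkSyl, Bool.and_eq_true] at h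
      first | exact h.1.1 | exact h.1.2 | exact h.2

theorem fact_two {k : ℕ} (hk : ¬ 2 ∣ k) : (2 ^ 10 * k).factorization 2 = 10 := by
  rw [Nat.factorization_mul (by norm_num) (fun e => hk (by rw [e]; exact dvd_zero 2)), Finsupp.add_apply,
    Nat.Prime.factorization_pow Nat.prime_two, Finsupp.single_eq_same, Nat.factorization_eq_zero_of_not_dvd hk]

theorem syl_one : sylD.one < sylD.m ∧ sameW actA ptsA (sylD.word sylD.one) [] = true := by decide +kernel

theorem syl_comm : (sylG.all fun w => sameW actA ptsA (w ++ [0]) ([0] ++ w)) = true := by decide +kernel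

theorem cls (φ : MulAut H) : IsConj (g 0) (φ (g 0)) :=
  Central.cls homA pts_lt det syl_parts.1 syl_one.1 syl_one.2 syl_parts.2.1
    (by rw [card_H, show (495766656000 : ℕ) = 2 ^ 10 * 484147125 by norm_num, fact_two (by norm_num)]; rfl)
    syl_comm (g_sq 0) (g_ne (by norm_num)) φ

theorem t_free : (tW.all fun s => Nat.blt s 5) = true ∧ ∀ p < 552, Nat.beq (actA.go tW p) p = false := by
  decide +kernel

theorem not_conj_t : ¬ IsConj (g 0) (ev g tW) := by
  intro h
  obtain ⟨c, hc⟩ := isConj_iff.1 h
  set p := pi (c * ev g fixW) base0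
  have hf : pi (ev g tW) p = p := by
    have hl : ∀ s ∈ zcW, s < actA.n := fun s hs => Nat.le_of_ble_eq_true (List.all_eq_true.1 zc_facts.1 s hs)
    have hz : pi (ev g zcW) base0 = base0 := Fin.ext ((homA.apply_ev _ hl base0).trans zc_facts.2.1)
    have hw : ∀ s ∈ fixW, s < 5 := fun s hs => Nat.le_of_ble_eq_true (List.all_eq_true.1 zc_facts.2.2.1 s hs)
    have e : ev g tW * (c * ev g fixW) = c * ev g fixW * ev g zcW := by
      rw [← hc, zcW, ev_append, ev_append, ev_reverse (fun s _ => g_sq s) _ hw, ev_zero]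
      group
    show pi (ev g tW) (pi (c * ev g fixW) base0) = _
    rw [← Equiv.Perm.mul_apply, ← map_mul, e, map_mul, Equiv.Perm.mul_apply, hz]
  have h2 := t_free.2 p p.2
  rw [← homA.apply_ev tW (fun s hs => Nat.le_of_ble_eq_true (List.all_eq_true.1 t_free.1 s hs)), hf,
    Nat.beq_refl] at h2
  exact Bool.noConfusion h2

theorem inv_len : invW.length = 631 ∧ cenG.length = c0W.length := by decide +kernel

/-- The listed involutions are permuted by the centraliser. -/
theorem inv_closed {c : H} (hc : c ∈ C) :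
    ∀ j < invW.length, ∃ k < invW.length, c * ev g (invW.getD j []) * c⁻¹ = ev g (invW.getD k []) := by
  rw [← C_facts.1, ← cenG_eq] at hc
  replace hc : c ∈ Subgroup.closure {x | ∃ w ∈ cenG, ev g w = x} := hc
  rw [← Subgroup.mem_toSubmonoid, Subgroup.closure_toSubmonoid_of_finite] at hc
  induction hc using Submonoid.closure_induction with
  | mem x hx =>
    obtain ⟨w, hw, rfl⟩ := hx
    obtain ⟨t, ht, rfl⟩ := List.mem_iff_getElem.1 hw
    intro j hj
    have hj' : j < 631 := inv_len.1 ▸ hj
    have h := inv_ok (t * 631 + j) (by have : cenG.length * 631 = 3155 := (by decide +kernel); nlinarith)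
    simp only [chkClosedInv, force_eq, Bool.and_eq_true, show (t * 631 + j) / 631 = t by omega,
      show (t * 631 + j) % 631 = j by omega] at h
    refine ⟨_, Nat.le_of_ble_eq_true h.1, ?_⟩
    have hl : ∀ s ∈ cenG.getD t [], s < 5 := fun s hs => by
      have h2 := h.2
      simp only [sameW, Bool.and_eq_true, List.all_append, List.all_eq_true] at h2
      exact Nat.le_of_ble_eq_true (h2.1.1.1 s hs)
    rw [← eq_of_same h.2, ev_append, ev_append, ev_reverse (fun s _ => g_sq s) _ hl, ← mul_assoc,
      List.getD_eq_getElem _ _ ht]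
  | one => exact fun j hj => ⟨j, hj, by group⟩
  | mul a b _ _ ha hb =>
    intro j hj
    obtain ⟨k, hk, e⟩ := hb j hj
    obtain ⟨l, hl, e'⟩ := ha k hk
    exact ⟨l, hl, by rw [← e', ← e]; group⟩

theorem invol (x : H) (hxz : IsConj (g 0) x) (hx : x * x = 1) (hne : x ≠ 1) (hcx : x * g 0 = g 0 * x) :
    ∃ j < invW.length, x = ev g (invW.getD j []) :=
  Central.invol homA pts_lt det g_sq syl_parts.1 syl_one.1 syl_one.2 rfl (comm_le (G' := sylG) syl_comm)
    (by rw [C_facts.2, show (2903040 : ℕ) = 2 ^ 10 * 2835 by norm_num, fact_two (by norm_num)]; rfl)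
    syl_parts.2.2 not_conj_t (fun c hc => inv_closed hc) x hxz hx hne hcx

end Cfsg.Agent.Spor.Cos.Co3Out
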