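import Cfsg.Agent.Lib.Spor.Cos.OutCentral
import Cfsg.Agent.Lib.Spor.Cos.Co3Out.ActData
import Cfsg.Agent.Lib.Spor.Cos.Co3Out.CenData
import Cfsg.Agent.Lib.Spor.Cos.Co3Out.SylData
import Cfsg.Agent.Lib.Spor.Cos.Co3Out.TriData

/-! Data and checks for the automorphisms of a group on 552 points. -/

set_option autoImplicit false
set_option maxRecDepth 100000
set_option maxHeartbeats 4000000

namespace Cfsg.Agent.Spor.Cos.Co3Out

open Triple

/-- The Sylow subgroup. -/
def sylD : Central.ListData := ⟨sylG, sylU, sylK, sylStep, sylPath, 1024, sylOne, 64⟩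

/-- The checks of an element of the Sylow subgroup. -/
noncomputable def chkSyl (i : ℕ) : Bool :=
  Central.chkList actA ptsA sylD i && Central.chkCentral actA ptsA sylD i &&
    Central.chkInvol actA ptsA sylD invW sylInv sylConj 64 tW i

/-- The conjugate of a listed involution is listed. -/
noncomputable def chkClosedInv (n : ℕ) : Bool :=
  (fun c : List ℕ => force (invIdx.at n) fun j => Nat.blt j invW.length &&
    sameW actA ptsA (c ++ (invW.getD (n % 631) [] ++ c.reverse)) (invW.getD j []))
    (cenG.getD (n / 631) [])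

/-- The tree. -/
def treeD : Tree5.Data := ⟨nodeW, nodeD, invW, conjW, relW, edgeT⟩

/-- The check of an edge of the tree. -/
noncomputable def chkTree (e : ℕ) : Bool := Tree5.chkEdge treeD actA ptsA e

end Cfsg.Agent.Spor.Cos.Co3Out
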