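import Cfsg.Agent.Lib.Spor.Cos.Co3Out.Defs

/-! Data and checks for the automorphisms of a group on 552 points. -/

set_option autoImplicit false
set_option maxRecDepth 100000
set_option maxHeartbeats 4000000

namespace Cfsg.Agent.Spor.Cos.Co3Out

theorem tree_b7 : allBlock (chkTree) 8203 256 7 = true := by decide +kernel

theorem tree_b8 : allBlock (chkTree) 8203 256 8 = true := by decide +kernel

theorem tree_b9 : allBlock (chkTree) 8203 256 9 = true := by decide +kernel

theorem tree_b10 : allBlock (chkTree) 8203 256 10 = true := by decide +kernel

theorem tree_b11 : allBlock (chkTree) 8203 256 11 = true := by decide +kernel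

theorem tree_b12 : allBlock (chkTree) 8203 256 12 = true := by decide +kernel

theorem tree_b13 : allBlock (chkTree) 8203 256 13 = true := by decide +kernel

end Cfsg.Agent.Spor.Cos.Co3Out
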