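import Cfsg.Agent.Lib.Spor.Cos.Co3Out.Defs

/-! Data and checks for the automorphisms of a group on 552 points. -/

set_option autoImplicit false
set_option maxRecDepth 100000
set_option maxHeartbeats 4000000

namespace Cfsg.Agent.Spor.Cos.Co3Out

theorem tree_b28 : allBlock (chkTree) 8203 256 28 = true := by decide +kernel

theorem tree_b29 : allBlock (chkTree) 8203 256 29 = true := by decide +kernel

theorem tree_b30 : allBlock (chkTree) 8203 256 30 = true := by decide +kernel

theorem tree_b31 : allBlock (chkTree) 8203 256 31 = true := by decide +kernel

theorem tree_b32 : allBlock (chkTree) 8203 256 32 = true := by decide +kernel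

end Cfsg.Agent.Spor.Cos.Co3Out
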