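import Cfsg.Agent.Lib.Spor.Cos.OutTwo
import Cfsg.Agent.Lib.Spor.Cos.Co3Out.Cent
import Cfsg.Agent.Lib.Spor.Cos.Co3Out.TreeChk

/-!
The automorphisms of a group on 552 points are inner.
-/

set_option autoImplicit false
set_option maxRecDepth 100000
set_option maxHeartbeats 1000000

namespace Cfsg.Agent.Spor.Cos.Co3Out

open Triple

theorem comm_chk : ∀ s < 4, sameW actA ptsA [s + 1, s] [s, s + 1] = true := by decide +kernel

theorem node_facts : ∀ i < nodeW.length,
    (i < 13 ∨ (nodeW.getD i []).length = 5) ∧ ((nodeW.getD i []).length = 5 → i = 13) := by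
  decide +kernel

theorem top_chk : ∀ s < 5, sameW actA ptsA ((nodeW.getD 13 []).getD s []) [s] = true := by decide +kernel

theorem conj_chk : ((List.range 5).all fun k => nodeD.any fun d =>
    sameW actA ptsA (d ++ ([0] ++ d.reverse)) [k]) = true := by decide +kernel

theorem gen_conj {k : ℕ} (hk : k < 5) : IsConj (g 0) (g k) := by
  obtain ⟨d, -, h⟩ := List.any_eq_true.1 (List.all_eq_true.1 conj_chk k (List.mem_range.2 hk))
  have hl : ∀ s ∈ d, s < 5 := fun s hs => by
    simp only [sameW, Bool.and_eq_true, List.all_append, List.all_eq_true] at h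
    exact Nat.le_of_ble_eq_true (h.1.1.1 s hs)
  have e := eq_of_same h
  rw [ev_append, ev_append, ev_reverse (fun s _ => g_sq s) _ hl, ← mul_assoc, show ev g [k] = g k from mul_one _,
    ev_zero] at e
  exact isConj_iff.2 ⟨_, e⟩

theorem exists_form (φ : MulAut H) : ∃ c : H, ∀ s < 5, φ (g s) = c * g s * c⁻¹ := by
  have hn : treeD.inv.length = 631 := inv_len.1
  obtain ⟨c, i, hi, hlen, h⟩ := Tree5.exists_node_class homA pts_lt det g_sq (D := treeD) rfl
    (fun s hs => g_ne hs)
    (fun s hs => by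
      have := eq_of_same (comm_chk s (by have : actA.n = 5 := rfl; omega))
      simpa [ev] using this)
    (P := IsConj (g 0))
    (fun ψ k hk => (cls ψ).trans ((ψ : H →* H).map_isConj (gen_conj hk)))
    invol cls
    (fun i hi hlt j hj => by
      have h17 : i < 13 := ((node_facts i hi).1).resolve_right (fun e => by
        have : actA.n = 5 := rfl
        exact absurd hlt (not_lt.2 (this.le.trans e.ge)))
      rw [hn] at hj
      have := tree_ok (i * 631 + j) (by omega)
      rw [hn]
      exact this)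
    (by decide +kernel) φ 5 (by norm_num) le_rfl
  refine ⟨c, fun s hs => ?_⟩
  rw [(node_facts i hi).2 hlen] at h
  rw [h s hs, show ev g ((treeD.nodes.getD 13 []).getD s []) = ev g [s] from eq_of_same (top_chk s hs)]
  simp [ev]

theorem card_out : Nat.card (Cfsg.Out H) = 1 := by
  refine Nat.card_eq_one_iff_unique.2 ⟨⟨fun a b => ?_⟩, ⟨1⟩⟩
  suffices key : ∀ x : Cfsg.Out H, x = 1 by rw [key a, key b]
  intro x
  obtain ⟨φ, rfl⟩ := QuotientGroup.mk_surjective x
  obtain ⟨c, hc⟩ := exists_form φ
  refine (QuotientGroup.eq_one_iff _).2 ⟨c, MulEquiv.toMonoidHom_injective (MonoidHom.eq_of_eqOn_dense g_gen ?_)⟩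
  rintro _ ⟨s, hs, rfl⟩
  exact (hc s hs).symm

end Cfsg.Agent.Spor.Cos.Co3Out
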